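import Groth.Agent.S6710
import Groth.Agent.Lib.QCoh.Abelian
import Groth.Agent.Lib.QCoh.Extension
import Groth.Agent.Lib.QCoh.Qcqs
import Groth.Agent.Lib.QCoh.FT
import Groth.Agent.Lib.QCoh.SupportExact
import Groth.Agent.Lib.OX.Exact
import Groth.Agent.Lib.OX.AffineReflect
import Groth.Agent.Lib.FlatFP.Sheaf
import Groth.Prelude

/-!
# The Serre closure of a finitely presented module
-/

set_option autoImplicit false
set_option linter.style.haveILetI false
set_option backward.isDefEq.respectTransparency.types false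

universe u

open CategoryTheory CategoryTheory.Limits AlgebraicGeometry Opposite TopologicalSpace

noncomputable section

namespace GrothLib.SerreClosure20

variable {X : Scheme.{u}}

/-- A Serre class of quasi-coherent modules closed under direct sums. -/
structure IsClass (P : ObjectProperty X.Modules) : Prop where
  serre : ∀ S : ShortComplex X.Modules, S.ShortExact → Coh.IsQCoh S.X₁ → Coh.IsQCoh S.X₂ →
    Coh.IsQCoh S.X₃ → (P S.X₂ ↔ P S.X₁ ∧ P S.X₃)
  sum : ∀ (ι : Type u) (M : ι → X.Modules), (∀ i, Coh.IsQCoh (M i)) → (∀ i, P (M i)) → P (∐ M)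

variable {P : ObjectProperty X.Modules} (hP : IsClass P)
include hP

theorem of_mono {A B : X.Modules} (i : A ⟶ B) [Mono i] [A.IsQuasicoherent] [B.IsQuasicoherent] (h : P B) : P A := by
  haveI := QCoh.isQuasicoherent_cokernel i
  exact ((hP.serre (.mk i (cokernel.π i) (cokernel.condition i))
    { exact := ShortComplex.exact_cokernel i } ‹A.IsQuasicoherent› ‹B.IsQuasicoherent› ‹_›).1 h).1

theorem of_epi {A B : X.Modules} (q : A ⟶ B) [Epi q] [A.IsQuasicoherent] [B.IsQuasicoherent] (h : P A) : P B := by
  haveI := QCoh.isQuasicoherent_kernel q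
  exact ((hP.serre (.mk (kernel.ι q) q (kernel.condition q))
    { exact := ShortComplex.exact_kernel q } ‹_› ‹A.IsQuasicoherent› ‹B.IsQuasicoherent›).1 h).2

theorem of_exact {A H K : X.Modules} (f : A ⟶ H) (g : H ⟶ K) (w : f ≫ g = 0)
    (he : (ShortComplex.mk f g w).Exact) [Mono f] [A.IsQuasicoherent] [H.IsQuasicoherent] [K.IsQuasicoherent]
    (hA : P A) (hK : P K) : P H := by
  haveI := QCoh.isQuasicoherent_cokernel f
  haveI : Mono (cokernel.desc f g w) := he.mono_cokernelDesc
  exact (hP.serre (.mk f (cokernel.π f) (cokernel.condition f))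
    { exact := ShortComplex.exact_cokernel f } ‹A.IsQuasicoherent› ‹H.IsQuasicoherent› ‹_›).2
      ⟨hA, of_mono hP (cokernel.desc f g w) hK⟩

/-- The maximal subobject in the class. -/
theorem exists_max (E : X.Modules) [E.IsQuasicoherent] :
    ∃ (T : X.Modules) (t : T ⟶ E), Mono t ∧ T.IsQuasicoherent ∧ P T ∧
      ∀ (H : X.Modules) (ι : H ⟶ E), Mono ι → H.IsQuasicoherent → P H → ∃ a : H ⟶ T, a ≫ t = ι := by
  let good := {S : Subobject E // Coh.IsQCoh (S : X.Modules) ∧ P (S : X.Modules)}
  let e : Shrink.{u} good ≃ good := (equivShrink good).symm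
  let M : Shrink.{u} good → X.Modules := fun i => ((e i).1 : X.Modules)
  let s : ∐ M ⟶ E := Sigma.desc fun i => (e i).1.arrow
  haveI : (∐ M).IsQuasicoherent := QCoh.isQuasicoherent_colimit _ fun i => (e i.as).2.1
  haveI := QCoh.isQuasicoherent_image s
  refine ⟨_, Abelian.image.ι s, inferInstance, ‹_›,
    of_epi hP (Abelian.factorThruImage s) (hP.sum _ M (fun i => (e i).2.1) fun i => (e i).2.2),
    fun H ι _ hHq hH => ?_⟩
  haveI := hHq
  let w := Subobject.underlyingIso ι
  have hmk : Coh.IsQCoh (Subobject.mk ι : X.Modules) ∧ P (Subobject.mk ι : X.Modules) := by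
    haveI := QCoh.isQuasicoherent_of_iso w.symm
    exact ⟨this, of_mono hP w.hom hH⟩
  obtain ⟨i, hi⟩ := e.surjective ⟨Subobject.mk ι, hmk⟩
  refine ⟨w.inv ≫ eqToHom (congrArg (fun g : good => (g.1 : X.Modules)) hi).symm ≫ Sigma.ι M i ≫ Abelian.factorThruImage s, ?_⟩
  have key : ∀ (g : good) (h : e i = g),
      eqToHom (show (g.1 : X.Modules) = M i by rw [← h]) ≫ (e i).1.arrow = g.1.arrow := by
    rintro _ rfl
    simp
  simp only [Category.assoc, Abelian.image.fac, s, Sigma.ι_desc]
  rw [key _ hi]
  exact Subobject.underlyingIso_arrow ι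

/-- The quotient by the maximal subobject has no nonzero subobject in the class. -/
theorem eq_zero_of_max {E T : X.Modules} (t : T ⟶ E) [Mono t] [T.IsQuasicoherent] [E.IsQuasicoherent] (hT : P T)
    (hmax : ∀ (H : X.Modules) (ι : H ⟶ E), Mono ι → H.IsQuasicoherent → P H → ∃ a : H ⟶ T, a ≫ t = ι)
    {H : X.Modules} (m : H ⟶ cokernel t) [Mono m] [H.IsQuasicoherent] (hH : P H) : m = 0 := by
  haveI := QCoh.isQuasicoherent_cokernel t
  haveI := QCoh.isQuasicoherent_cokernel m
  haveI hq := QCoh.isQuasicoherent_kernel (cokernel.π t ≫ cokernel.π m)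
  let ι := kernel.ι (cokernel.π t ≫ cokernel.π m)
  let q : kernel (cokernel.π t ≫ cokernel.π m) ⟶ H :=
    Abelian.monoLift m (ι ≫ cokernel.π t) (by rw [Category.assoc]; exact kernel.condition _)
  have hq' : q ≫ m = ι ≫ cokernel.π t := Abelian.monoLift_comp _ _ _
  let f : T ⟶ kernel (cokernel.π t ≫ cokernel.π m) := kernel.lift _ t (by simp)
  have hf : f ≫ ι = t := kernel.lift_ι _ _ _
  haveI : Mono f := mono_of_mono_fac hf
  have w : f ≫ q = 0 := by
    rw [← cancel_mono m, Category.assoc, hq', ← Category.assoc, hf, cokernel.condition, zero_comp]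
  have he : (ShortComplex.mk f q w).Exact := by
    refine ShortComplex.exact_of_f_is_kernel _ (KernelFork.IsLimit.ofι' f w fun {A} g hg => ?_)
    have h1 : (g ≫ ι) ≫ cokernel.π t = 0 := by rw [Category.assoc, ← hq', ← Category.assoc, hg, zero_comp]
    refine ⟨Abelian.monoLift t (g ≫ ι) h1, ?_⟩
    rw [← cancel_mono ι, Category.assoc, hf]
    exact Abelian.monoLift_comp _ _ _
  obtain ⟨a, ha⟩ := hmax _ ι inferInstance hq (of_exact hP f q w he hT hH)
  have h0 : ι ≫ cokernel.π t = 0 := by rw [← ha, Category.assoc, cokernel.condition, comp_zero]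
  -- every section of the image of `m` comes from `q`
  haveI : Epi q := by
    have sq : IsPullback q ι m (cokernel.π t) := by
      refine ⟨⟨hq'⟩, ⟨PullbackCone.IsLimit.mk _ (fun c => kernel.lift _ c.snd ?_) (fun c => ?_) (fun c => ?_) fun c l h1 h2 => ?_⟩⟩
      · rw [← Category.assoc, ← c.condition, Category.assoc, cokernel.condition, comp_zero]
      · rw [← cancel_mono m, Category.assoc, hq', ← Category.assoc, kernel.lift_ι, c.condition]
      · exact kernel.lift_ι _ _ _
      · rw [← cancel_mono ι, kernel.lift_ι]; exact h2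
    exact Abelian.epi_fst_of_isLimit _ _ sq.isLimit
  rw [← cancel_epi q, hq', h0, comp_zero]

omit hP in
/-- A nonzero morphism on an affine open. -/
theorem exists_affine_hom (F E : X.Modules) [F.IsQuasicoherent] [E.IsQuasicoherent] (hF : CohB1.IsFP F)
    (hsupp : CohB1.support E ⊆ CohB1.support F) {U : X.Opens} (hU : IsAffineOpen U) [Nontrivial Γ(E, U)] :
    ∃ φ : F.restrict hU.fromSpec ⟶ E.restrict hU.fromSpec, φ ≠ 0 := by
  haveI := FlatFP.finitePresentation_sections (F := F) hF hU
  have hs : Module.support Γ(X, U) Γ(E, U) ⊆ Module.support Γ(X, U) Γ(F, U) := by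
    intro p hp
    have hmem : hU.fromSpec p ∈ U := by
      have : hU.fromSpec p ∈ Set.range hU.fromSpec := ⟨p, rfl⟩
      rwa [hU.range_fromSpec] at this
    have he : (⟨WeakAss.primeAt (hU.fromSpec p) hmem, inferInstance⟩ : PrimeSpectrum Γ(X, U)) = p :=
      PrimeSpectrum.ext (WeakAss.primeAt_fromSpec hU p hmem)
    rw [← he, ← QCoh.mem_support_iff_primeAt F hU hmem]
    exact hsupp ((QCoh.mem_support_iff_primeAt E hU hmem).2 (he.symm ▸ hp))
  haveI := Groth.Agent.S6710.result Γ(X, U) Γ(F, U) Γ(E, U) hs
  obtain ⟨l, hl⟩ := exists_ne (0 : Γ(F, U) →ₗ[Γ(X, U)] Γ(E, U))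
  haveI iF : IsIso (F.restrict hU.fromSpec).fromTildeΓ := Scheme.Modules.isIso_fromTildeΓ_of_isQuasicoherent _
  haveI iE : IsIso (E.restrict hU.fromSpec).fromTildeΓ := Scheme.Modules.isIso_fromTildeΓ_of_isQuasicoherent _
  let l' : (modulesSpecToSheaf.obj (F.restrict hU.fromSpec)).presheaf.obj (.op ⊤) ⟶
      (modulesSpecToSheaf.obj (E.restrict hU.fromSpec)).presheaf.obj (.op ⊤) :=
    (QCoh.topLinearEquiv hU F).toModuleIso.hom ≫ ModuleCat.ofHom l ≫ (QCoh.topLinearEquiv hU E).toModuleIso.inv
  refine ⟨inv (F.restrict hU.fromSpec).fromTildeΓ ≫ tilde.map l' ≫ (E.restrict hU.fromSpec).fromTildeΓ, fun h => hl ?_⟩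
  have h1 : (tilde.functor Γ(X, U)).map l' = (tilde.functor Γ(X, U)).map 0 := by
    rw [Functor.map_zero]
    show tilde.map l' = 0
    rw [← cancel_epi (inv (F.restrict hU.fromSpec).fromTildeΓ), ← cancel_mono (E.restrict hU.fromSpec).fromTildeΓ]
    simpa using h
  have h2 := (tilde.functor Γ(X, U)).map_injective h1
  refine LinearMap.ext fun x => ?_
  obtain ⟨y, rfl⟩ := (QCoh.topLinearEquiv hU F).surjective x
  have h3 := congrArg (fun ψ => ψ.hom y) h2
  exact (QCoh.topLinearEquiv hU E).symm.map_eq_zero_iff.1 h3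

omit hP in
theorem subsingleton_sections_of_isZero_restrict {M : X.Modules} {U : X.Opens} (hU : IsAffineOpen U)
    (h : IsZero (M.restrict hU.fromSpec)) : Subsingleton Γ(M, U) := by
  have h' : Subsingleton Γ(M, hU.fromSpec ''ᵁ ⊤) := subsingleton_of_forall_eq 0 fun t => by
    have := congrArg (fun ψ => Scheme.Modules.Hom.app ψ ⊤ t) (h.eq_of_src (𝟙 (M.restrict hU.fromSpec)) 0)
    simp at this
    exact this
  rwa [QCoh.image_top hU] at h'

omit hP in
theorem quasiCompact_fromSpec20 [QuasiSeparatedSpace X] {U : X.Opens} (hU : IsAffineOpen U) :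
    QuasiCompact hU.fromSpec := by
  refine ⟨fun K hKo hKc => ?_⟩
  rw [hU.fromSpec.isOpenEmbedding.isInducing.isCompact_iff, Set.image_preimage_eq_inter_range,
    show Set.range hU.fromSpec.base = (U : Set X) from hU.range_fromSpec]
  exact QuasiSeparatedSpace.inter_isCompact _ _ hKo hKc U.isOpen hU.isCompact

/-- The Serre closure contains everything supported in the support. -/
theorem mem_of_forall [QuasiSeparatedSpace X] (F : X.Modules) [F.IsQuasicoherent] (hF : CohB1.IsFP F) (hPF : P F)
    {ι : Type u} (U : ι → X.Opens) (hU : ∀ i, IsAffineOpen (U i)) (hcov : ∀ x : X, ∃ i, x ∈ U i) (l : List ι)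
    (E : X.Modules) [hE : E.IsQuasicoherent] (hsupp : CohB1.support E ⊆ CohB1.support F)
    (h : ∀ i ∉ l, Subsingleton Γ(E, U i)) : P E := by
  induction l generalizing E with
  | nil =>
    have hz : IsZero E := OX.isZero_of_affine_cover hE U hU hcov fun i t =>
      @Subsingleton.elim _ (h i (List.not_mem_nil)) t 0
    haveI : Mono (0 : E ⟶ F) := ⟨fun _ _ _ => hz.eq_of_tgt _ _⟩
    exact of_mono hP (0 : E ⟶ F) hPF
  | cons i₀ l ih =>
    obtain ⟨T, t, htm, hTq, hT, hmax⟩ := exists_max hP E
    haveI := htm; haveI := hTq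
    haveI hEq := QCoh.isQuasicoherent_cokernel t
    have hS : (ShortComplex.mk t (cokernel.π t) (cokernel.condition t)).ShortExact :=
      { exact := ShortComplex.exact_cokernel t }
    let j := (hU i₀).fromSpec
    let E' := cokernel t
    have hsupp' : CohB1.support E' ⊆ CohB1.support F :=
      (QCoh.support_subset_of_epi (cokernel.π t)).trans hsupp
    have hl : ∀ i ∉ (i₀ :: l), Subsingleton Γ(E', U i) := fun i hi => by
      haveI := h i hi
      have := QCoh.app_surjective_of_isAffineOpen hS (hU i)
      exact this.subsingleton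
    suffices hz : IsZero E' by
      exact of_exact hP t (cokernel.π t) (cokernel.condition t) hS.exact hT
        (by haveI : Mono (0 : E' ⟶ T) := ⟨fun _ _ _ => hz.eq_of_tgt _ _⟩; exact of_mono hP (0 : E' ⟶ T) hT)
    haveI : QuasiCompact j := quasiCompact_fromSpec20 (hU i₀)
    let η : E' ⟶ (Scheme.Modules.pushforward j).obj (E'.restrict j) := (Scheme.Modules.restrictAdjunction j).unit.app E'
    have tri : (Scheme.Modules.restrictFunctor j).map η ≫ (Scheme.Modules.restrictAdjunction j).counit.app _ = 𝟙 _ :=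
      (Scheme.Modules.restrictAdjunction j).left_triangle_components E'
    haveI : IsIso ((Scheme.Modules.restrictFunctor j).map η) := by
      have : IsIso ((Scheme.Modules.restrictFunctor j).map η ≫ (Scheme.Modules.restrictAdjunction j).counit.app _) := by
        rw [tri]; infer_instance
      exact IsIso.of_isIso_comp_right _ ((Scheme.Modules.restrictAdjunction j).counit.app _)
    haveI hJq : ((Scheme.Modules.pushforward j).obj (E'.restrict j)).IsQuasicoherent :=
      QCoh.isQuasicoherent_pushforward j (E'.restrict j)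
    haveI hKq := QCoh.isQuasicoherent_kernel η
    have hKsub : ∀ i, Subsingleton Γ(E', U i) → Subsingleton Γ(kernel η, U i) := fun i hi => by
      have hS' : (ShortComplex.mk (kernel.ι η) (cokernel.π (kernel.ι η)) (cokernel.condition _)).ShortExact :=
        { exact := ShortComplex.exact_cokernel _ }
      exact (QCoh.app_injective hS' (U i)).subsingleton
    have hK0 : Subsingleton Γ(kernel η, U i₀) := subsingleton_sections_of_isZero_restrict (hU i₀)
      ((isZero_kernel_of_mono ((Scheme.Modules.restrictFunctor j).map η)).of_iso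
        (PreservesKernel.iso (Scheme.Modules.restrictFunctor j) η))
    have hKP : P (kernel η) := ih (kernel η) ((QCoh.support_subset_of_mono (kernel.ι η)).trans hsupp') fun i hi => by
      by_cases hi₀ : i = i₀
      · exact hi₀ ▸ hK0
      · exact hKsub i (hl i (by simp [hi₀, hi]))
    haveI : Mono η := Preadditive.mono_of_kernel_zero (eq_zero_of_max hP t hT hmax (kernel.ι η) hKP)
    have hE0 : Subsingleton Γ(E', U i₀) := by
      by_contra hne
      haveI := not_subsingleton_iff_nontrivial.1 hne
      obtain ⟨φ, hφ⟩ := exists_affine_hom F E' hF hsupp' (hU i₀)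
      let α : F ⟶ (Scheme.Modules.pushforward j).obj (E'.restrict j) :=
        (Scheme.Modules.restrictAdjunction j).homEquiv F (E'.restrict j) φ
      have hα : (Scheme.Modules.restrictFunctor j).map α = φ ≫ (Scheme.Modules.restrictFunctor j).map η := by
        rw [← cancel_mono ((Scheme.Modules.restrictAdjunction j).counit.app (E'.restrict j)), Category.assoc, tri,
          Category.comp_id]
        exact ((Scheme.Modules.restrictAdjunction j).homEquiv_counit _ _ _).symm.trans (Equiv.symm_apply_apply _ _)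
      haveI := QCoh.isQuasicoherent_cokernel η
      haveI hQq := QCoh.isQuasicoherent_kernel (α ≫ cokernel.π η)
      let b : kernel (α ≫ cokernel.π η) ⟶ E' :=
        Abelian.monoLift η (kernel.ι _ ≫ α) (by rw [Category.assoc]; exact kernel.condition _)
      have hb : b ≫ η = kernel.ι _ ≫ α := Abelian.monoLift_comp _ _ _
      haveI := QCoh.isQuasicoherent_image b
      have hPQ : P (kernel (α ≫ cokernel.π η)) := of_mono hP (kernel.ι _) hPF
      have hb0 : b = 0 := by
        rw [← Abelian.image.fac b, eq_zero_of_max hP t hT hmax (Abelian.image.ι b)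
          (of_epi hP (Abelian.factorThruImage b) hPQ), comp_zero]
      have hlim := isLimitOfHasKernelOfPreservesLimit (Scheme.Modules.restrictFunctor j) (α ≫ cokernel.π η)
      obtain ⟨l', hl'⟩ := KernelFork.IsLimit.lift' hlim (𝟙 (F.restrict j)) (by
        rw [Category.id_comp]
        show (Scheme.Modules.restrictFunctor j).map (α ≫ cokernel.π η) = 0
        rw [Functor.map_comp, hα, Category.assoc, ← Functor.map_comp, cokernel.condition, Functor.map_zero, comp_zero])
      apply hφ
      rw [← cancel_mono ((Scheme.Modules.restrictFunctor j).map η), zero_comp, ← hα,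
        ← Category.id_comp ((Scheme.Modules.restrictFunctor j).map α), ← hl']
      show (l' ≫ (Scheme.Modules.restrictFunctor j).map (kernel.ι _)) ≫ _ = 0
      rw [Category.assoc, ← Functor.map_comp, ← hb, hb0, zero_comp, Functor.map_zero, comp_zero]
    have hE'P : P E' := ih E' hsupp' fun i hi => by
      by_cases hi₀ : i = i₀
      · exact hi₀ ▸ hE0
      · exact hl i (by simp [hi₀, hi])
    exact IsZero.of_mono_eq_zero _ (eq_zero_of_max hP t hT hmax (𝟙 E') hE'P)

end GrothLib.SerreClosure20
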